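import Groth.Agent.GrFlat5.Rees
import Groth.Agent.NFlat6.Converse
import Groth.Agent.S0389

/-! Generic normal flatness. -/

set_option autoImplicit false
set_option linter.style.haveILetI false
noncomputable section

universe u

open TensorProduct

namespace Groth.Agent.GenNFlat

open Groth.Agent.NFlat6

theorem exists_flat (A : Type u) [CommRing A] [IsNoetherianRing A] (p : Ideal A) [p.IsPrime]
    (M : Type u) [AddCommGroup M] [Module A M] [Module.Finite A M] :
    ∃ g : A, g ∉ p ∧ ∀ (W : Type u) [CommRing W] [Algebra (A ⧸ p) W]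
      [IsLocalization.Away (Ideal.Quotient.mk p g) W] (k : ℕ), Module.Flat (A ⧸ p) (W ⊗[A ⧸ p] Pc p M k) := by
  have htor : ∀ k, Module.IsTorsionBySet A (GrFlat5.grPiece p M k) (p : Set A) := by
    intro k x a
    obtain ⟨y, rfl⟩ := Submodule.Quotient.mk_surjective _ x
    show (a : A) • Submodule.Quotient.mk y = 0
    rw [← Submodule.Quotient.mk_smul, Submodule.Quotient.mk_eq_zero, Submodule.mem_comap, map_smul,
      pow_succ', Submodule.mul_smul]
    exact Submodule.smul_mem_smul a.2 y.2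
  letI : ∀ k, Module (A ⧸ p) (GrFlat5.grPiece p M k) := fun k => (htor k).module
  haveI : ∀ k, IsScalarTower A (A ⧸ p) (GrFlat5.grPiece p M k) := fun k => (htor k).isScalarTower
  obtain ⟨S, _, _, _, E, _, _, _, _, _, s, r, hrs, -⟩ := GrFlat5.exists_graded_cover p M
  obtain ⟨f, hf0, hfree, -, -, -⟩ := Groth.Agent.S0389.result (R := A ⧸ p) (S := S) (M := E)
  obtain ⟨g, rfl⟩ := Ideal.Quotient.mk_surjective f
  refine ⟨g, fun h => hf0 (Ideal.Quotient.eq_zero_iff_mem.mpr h), fun W _ _ _ k => ?_⟩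
  haveI := hfree
  let w : Localization.Away (Ideal.Quotient.mk p g) ≃ₐ[A ⧸ p] W :=
    IsLocalization.algEquiv (Submonoid.powers (Ideal.Quotient.mk p g)) _ _
  haveI : Module.Flat (A ⧸ p) (Localization.Away (Ideal.Quotient.mk p g)) :=
    IsLocalization.flat _ (Submonoid.powers (Ideal.Quotient.mk p g))
  haveI : Module.Flat (A ⧸ p) (Localization.Away (Ideal.Quotient.mk p g) ⊗[A ⧸ p] E) :=
    Module.Flat.trans (A ⧸ p) (Localization.Away (Ideal.Quotient.mk p g)) _
  haveI : Module.Flat (A ⧸ p) (W ⊗[A ⧸ p] E) :=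
    Module.Flat.of_linearEquiv (TensorProduct.congr w.toLinearEquiv (LinearEquiv.refl _ E)).symm
  haveI : Module.Flat (A ⧸ p) (W ⊗[A ⧸ p] GrFlat5.grPiece p M k) := by
    refine Module.Flat.of_retract ((s k).lTensor W) ((r k).lTensor W) ?_
    rw [← LinearMap.lTensor_comp, hrs, LinearMap.lTensor_id]
  let e : Pc p M k ≃ₗ[A] GrFlat5.grPiece p M k := Submodule.quotEquivOfEq _ _ (by
    ext y
    rw [mem_smul_top_iff_val, Submodule.mem_comap]
    rfl)
  exact Module.Flat.of_linearEquiv (TensorProduct.congr (LinearEquiv.refl (A ⧸ p) W)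
    (e.extendScalarsOfSurjective (S := A ⧸ p) Ideal.Quotient.mk_surjective))

variable {A L : Type u} [CommRing A] [CommRing L] [Algebra A L] (I : Ideal A)
  {N : Type u} [AddCommGroup N] [Module A N] [Module L N] [IsScalarTower A L N]

theorem mem_pow_map_smul (k : ℕ) (z : N) :
    z ∈ (I.map (algebraMap A L)) ^ k • (⊤ : Submodule L N) ↔ z ∈ Pw I N k := by
  rw [← Ideal.map_pow]
  exact SetLike.ext_iff.mp ((Submodule.restrictScalars_map_smul_eq (S := A) (R := L) (M := N) (I ^ k) ⊤).trans
    (by rw [Submodule.restrictScalars_top])) z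

/-- Pieces along the extended ideal agree with pieces over the base. -/
def pieceEquiv (k : ℕ) : (↥((I.map (algebraMap A L)) ^ k • (⊤ : Submodule L N)) ⧸
      (I.map (algebraMap A L) • (⊤ : Submodule L ↥((I.map (algebraMap A L)) ^ k • (⊤ : Submodule L N))))) ≃+
    Pc I N k := by
  let σ : ↥((I.map (algebraMap A L)) ^ k • (⊤ : Submodule L N)) ≃+ ↥(Pw I N k) :=
    { toFun := fun z => ⟨z.1, (mem_pow_map_smul I k _).mp z.2⟩
      invFun := fun z => ⟨z.1, (mem_pow_map_smul I k _).mpr z.2⟩
      left_inv := fun _ => rfl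
      right_inv := fun _ => rfl
      map_add' := fun _ _ => rfl }
  refine QuotientAddGroup.congr
    (I.map (algebraMap A L) • (⊤ : Submodule L ↥((I.map (algebraMap A L)) ^ k • (⊤ : Submodule L N)))).toAddSubgroup
    (I • (⊤ : Submodule A ↥(Pw I N k))).toAddSubgroup σ ?_
  ext y
  refine Iff.trans ⟨fun ⟨x, hx, hxy⟩ => (show σ.symm y = x from σ.symm_apply_eq.mpr hxy.symm) ▸ hx,
    fun h => ⟨σ.symm y, h, σ.apply_symm_apply y⟩⟩ ?_
  show σ.symm y ∈ I.map (algebraMap A L) •
      (⊤ : Submodule L ↥((I.map (algebraMap A L)) ^ k • (⊤ : Submodule L N))) ↔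
    y ∈ (I • ⊤ : Submodule A ↥(Pw I N k))
  rw [Submodule.mem_smul_top_iff, mem_smul_top_iff_val]
  show (y : N) ∈ I.map (algebraMap A L) • ((I.map (algebraMap A L)) ^ k • (⊤ : Submodule L N)) ↔ _
  rw [← Submodule.mul_smul, ← pow_succ', mem_pow_map_smul]

theorem pieceEquiv_smul (k : ℕ) (a : A) (z : ↥((I.map (algebraMap A L)) ^ k • (⊤ : Submodule L N)) ⧸
      (I.map (algebraMap A L) • (⊤ : Submodule L ↥((I.map (algebraMap A L)) ^ k • (⊤ : Submodule L N))))) :
    pieceEquiv I k (algebraMap A L a • z) = a • pieceEquiv I k z := by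
  obtain ⟨y, rfl⟩ := Submodule.Quotient.mk_surjective _ z
  show Submodule.Quotient.mk _ = a • Submodule.Quotient.mk _
  rw [← Submodule.Quotient.mk_smul]
  congr 1
  exact Subtype.ext (algebraMap_smul L a (y : N))

theorem normallyFlat_away (p : Ideal A) (M : Type u) [AddCommGroup M] [Module A M] (g : A)
    [IsLocalization.Away g L] (f : M →ₗ[A] N) [IsLocalizedModule (Submonoid.powers g) f]
    (h : ∀ (W : Type u) [CommRing W] [Algebra (A ⧸ p) W]
      [IsLocalization.Away (Ideal.Quotient.mk p g) W] (k : ℕ), Module.Flat (A ⧸ p) (W ⊗[A ⧸ p] Pc p M k)) :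
    EGA4.IsNormallyFlat (p.map (algebraMap A L)) N := by
  intro k
  let p' := p.map (algebraMap A L)
  letI : Algebra (A ⧸ p) (L ⧸ p') := (Ideal.quotientMap p' (algebraMap A L) Ideal.le_comap_map).toAlgebra
  haveI : IsScalarTower A (A ⧸ p) (L ⧸ p') := IsScalarTower.of_algebraMap_eq fun _ => rfl
  haveI : IsLocalization (Algebra.algebraMapSubmonoid (A ⧸ p) (Submonoid.powers g)) (L ⧸ p') :=
    IsLocalization.of_surjective (Submonoid.powers g) L (Ideal.Quotient.mk p) Ideal.Quotient.mk_surjective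
      (Ideal.Quotient.mk p') Ideal.Quotient.mk_surjective rfl (by
        rw [Ideal.mk_ker, Ideal.mk_ker])
  haveI : IsLocalization.Away (Ideal.Quotient.mk p g) (L ⧸ p') := by
    rw [show Algebra.algebraMapSubmonoid (A ⧸ p) (Submonoid.powers g) =
      Submonoid.powers (Ideal.Quotient.mk p g) from Submonoid.map_powers _ g] at *
    assumption
  haveI := isLocalizedModule_pcMap (R := p) (Submonoid.powers g) f k
  let φ : Pc p M k →ₗ[A ⧸ p] Pc p N k :=
    LinearMap.extendScalarsOfSurjective Ideal.Quotient.mk_surjective (pcMap f k)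
  haveI : IsLocalizedModule (Submonoid.powers g) (φ.restrictScalars A) := by
    rw [show φ.restrictScalars A = pcMap f k from LinearMap.ext fun _ => rfl]
    infer_instance
  haveI hφ : IsLocalizedModule (Submonoid.powers (Ideal.Quotient.mk p g)) φ := by
    have := IsLocalizedModule.of_restrictScalars (A := A ⧸ p) (Submonoid.powers g) φ
    rwa [show Algebra.algebraMapSubmonoid (A ⧸ p) (Submonoid.powers g) =
      Submonoid.powers (Ideal.Quotient.mk p g) from Submonoid.map_powers _ g] at this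
  haveI : Module.Flat (A ⧸ p) (Pc p N k) := by
    haveI := h (L ⧸ p') k
    have e1 : IsBaseChange (Localization.Away (Ideal.Quotient.mk p g))
        (LocalizedModule.mkLinearMap (Submonoid.powers (Ideal.Quotient.mk p g)) (Pc p M k)) :=
      IsLocalizedModule.isBaseChange (Submonoid.powers (Ideal.Quotient.mk p g)) _ _
    haveI := h (Localization.Away (Ideal.Quotient.mk p g)) k
    haveI : Module.Flat (A ⧸ p) (LocalizedModule (Submonoid.powers (Ideal.Quotient.mk p g)) (Pc p M k)) :=
      Module.Flat.of_linearEquiv (e1.equiv.restrictScalars (A ⧸ p)).symm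
    exact Module.Flat.of_linearEquiv (IsLocalizedModule.iso (Submonoid.powers (Ideal.Quotient.mk p g)) φ).symm
  let P' := ↥(p' ^ k • (⊤ : Submodule L N)) ⧸ (p' • (⊤ : Submodule L ↥(p' ^ k • (⊤ : Submodule L N))))
  letI : Module (A ⧸ p) P' := Module.compHom P' (algebraMap (A ⧸ p) (L ⧸ p'))
  haveI : IsScalarTower (A ⧸ p) (L ⧸ p') P' := IsScalarTower.of_algebraMap_smul fun _ _ => rfl
  let e : P' ≃ₗ[A ⧸ p] Pc p N k :=
    { pieceEquiv p k with
      map_smul' := fun c z => by
        obtain ⟨a, rfl⟩ := Ideal.Quotient.mk_surjective c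
        exact pieceEquiv_smul p k a z }
  haveI : Module.Flat (A ⧸ p) P' := Module.Flat.of_linearEquiv e
  exact (Module.flat_iff_of_isLocalization (L ⧸ p') (Submonoid.powers (Ideal.Quotient.mk p g)) P').mpr ‹_›

end Groth.Agent.GenNFlat
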